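import Groth.Agent.H1CechLC.Degree0
import Groth.Agent.LC.CohAcyclic

/-! The extended Čech complex computes local cohomology over a Noetherian ring. -/

universe u

open CategoryTheory CategoryTheory.Limits CochainComplex

namespace Groth.Agent.H1CechLC

set_option backward.isDefEq.respectTransparency false
set_option backward.isDefEq.respectTransparency.types false

variable {R : Type u} [CommRing R]

theorem isZero_cocone_of_src {K L : DRing.Cx R} (φ : K ⟶ L) (q : ℤ) (hK : IsZero (K.homology q))
    (hL : ∀ n, IsZero (L.homology n)) : IsZero ((mappingCocone φ).homology q) := by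
  refine IsZero.of_iso ?_
    (((HomologicalComplex.homologyFunctor (ModuleCat.{u} R) (ComplexShape.up ℤ) 0).shiftIso (-1 : ℤ) q
      (q - 1) (by omega)).app (mappingCone φ))
  refine (LC.ExtCech.isZero_quotient_iff _ _).1 ?_
  refine ((HomotopyCategory.homologyFunctor (ModuleCat.{u} R) (ComplexShape.up ℤ) (q - 1)).map_distinguished_exact _
    (Pretriangulated.rot_of_distTriang _ (HomotopyCategory.mappingCone_triangleh_distinguished φ))).isZero_of_both_zeros ?_ ?_
  · exact ((LC.ExtCech.isZero_quotient_iff L _).2 (hL _)).eq_of_src _ _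
  · have hs : IsZero ((K⟦(1 : ℤ)⟧ : DRing.Cx R).homology (q - 1)) :=
      hK.of_iso (((HomologicalComplex.homologyFunctor (ModuleCat.{u} R) (ComplexShape.up ℤ) 0).shiftIso
        (1 : ℤ) (q - 1) q (by omega)).app K)
    have h : IsZero ((HomotopyCategory.homologyFunctor (ModuleCat.{u} R) (ComplexShape.up ℤ) (q - 1)).obj
        (((HomotopyCategory.quotient _ _).obj K)⟦(1 : ℤ)⟧)) :=
      ((LC.ExtCech.isZero_quotient_iff (K⟦(1 : ℤ)⟧) (q - 1)).2 hs).of_iso
        ((HomotopyCategory.homologyFunctor (ModuleCat.{u} R) (ComplexShape.up ℤ) (q - 1)).mapIso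
          (((HomotopyCategory.quotient (ModuleCat.{u} R) (ComplexShape.up ℤ)).commShiftIso (1 : ℤ)).app K).symm)
    exact h.eq_of_tgt _ _

/-- Every term of the complex of a `g`-torsion module is `g`-torsion. -/
theorem tors_X {g : R} (N : ModuleCat.{u} R) (hN : ∀ x : N, ∃ k : ℕ, g ^ k • x = 0) :
    ∀ (fs : List R) (n : ℤ) (x : (DerCA.extCech N fs).X n), ∃ k : ℕ, g ^ k • x = 0
  | [], n, x => by
    by_cases hn : n = 0
    · subst hn
      obtain ⟨k, hk⟩ := hN (p0 N [] x)
      exact ⟨k, (p0_spec N []).1.1 ((map_smul (p0 N []).hom _ x).trans (hk.trans (map_zero _).symm))⟩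
    · have := ModuleCat.isZero_iff_subsingleton.1
        (HomologicalComplex.isZero_single_obj_X (ComplexShape.up ℤ) 0 N n hn)
      exact ⟨0, this.elim _ _⟩
  | c :: fs, n, x => by
    let φ := DerCA.locCxUnit (Submonoid.powers c) (DerCA.extCech N fs)
    have ih := tors_X N hN fs
    let y : (mappingCone φ).X (n + (-1)) := x
    obtain ⟨k, hk⟩ := ih _ ((mappingCone.fst φ).1.v (n + (-1)) (n + (-1) + 1) rfl y)
    haveI := localizedModuleIsLocalizedModule (M := (DerCA.extCech N fs).X (n + (-1))) (Submonoid.powers c)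
    obtain ⟨⟨m, s⟩, hm⟩ := IsLocalizedModule.mk'_surjective (Submonoid.powers c)
      (LocalizedModule.mkLinearMap (Submonoid.powers c) ((DerCA.extCech N fs).X (n + (-1))))
      ((mappingCone.snd φ).v (n + (-1)) (n + (-1)) (add_zero _) y)
    obtain ⟨l, hl⟩ := ih _ m
    refine ⟨k + l, ?_⟩
    show g ^ (k + l) • y = 0
    refine hom_ext_cone φ _ ?_ ?_
    · refine (map_smul _ _ _).trans (Eq.trans ?_ (map_zero _).symm)
      rw [pow_add, mul_comm (g ^ k), mul_smul, hk, smul_zero]
    · refine (map_smul _ _ _).trans (Eq.trans ?_ (map_zero _).symm)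
      rw [← hm]
      show g ^ (k + l) • IsLocalizedModule.mk' _ m s = 0
      rw [← IsLocalizedModule.mk'_smul, pow_add, mul_smul, hl, smul_zero, IsLocalizedModule.mk'_zero]

variable [IsNoetherianRing R]

theorem isZero_of_injective : ∀ (fs : List R) (E : ModuleCat.{u} R), Module.Injective R E →
    ∀ q : ℤ, 0 < q → IsZero ((DerCA.extCech E fs).homology q)
  | [], E, _, q, hq => ShortComplex.isZero_homology_of_isZero_X₂ _
      (HomologicalComplex.isZero_single_obj_X (ComplexShape.up ℤ) 0 E q hq.ne')
  | g :: fs, E, hE, q, hq => by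
    let T := DRing.torsionSub (Ideal.span {g}) E
    have hT : Module.Injective R T := by
      show Module.Injective R ↥(DRing.torsionSub (Ideal.span {g}) E)
      rw [LC.torsionSub_eq_iSup]; exact LC.injective_torsion _
    have hmemT : ∀ x : E, x ∈ T ↔ ∃ k : ℕ, g ^ k • x = 0 := fun x => by
      show x ∈ DRing.torsionSub (Ideal.span {g}) E ↔ _
      constructor
      · rintro ⟨n, hn⟩
        exact ⟨n, hn _ (Ideal.pow_mem_pow (Ideal.mem_span_singleton_self g) n)⟩
      · rintro ⟨k, hk⟩
        refine ⟨k, fun a ha => ?_⟩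
        rw [Ideal.span_singleton_pow, Ideal.mem_span_singleton'] at ha
        obtain ⟨b, rfl⟩ := ha
        rw [mul_smul, hk, smul_zero]
    haveI hlocE := localizedModuleIsLocalizedModule (M := E) (Submonoid.powers g)
    let S : ShortComplex (ModuleCat.{u} R) := ShortComplex.mk (ModuleCat.ofHom T.subtype)
      (ModuleCat.ofHom (LocalizedModule.mkLinearMap (Submonoid.powers g) E)) (ModuleCat.hom_ext (LinearMap.ext fun x => by
        obtain ⟨k, hk⟩ := (hmemT x.1).1 x.2
        exact (IsLocalizedModule.eq_zero_iff (Submonoid.powers g)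
          (LocalizedModule.mkLinearMap (Submonoid.powers g) E)).2 ⟨⟨g ^ k, k, rfl⟩, hk⟩))
    have hS : S.ShortExact := mk_shortExact _ _ _ (Submodule.injective_subtype T)
      (LC.surjective_mkLinearMap_of_injective E g) (fun b hb => by
        obtain ⟨⟨_, k, rfl⟩, hk⟩ := (IsLocalizedModule.eq_zero_iff (Submonoid.powers g)
          (LocalizedModule.mkLinearMap (Submonoid.powers g) E)).1 hb
        exact ⟨⟨b, (hmemT b).2 ⟨k, hk⟩⟩, rfl⟩)
    have hunit : IsIso (g • 𝟙 S.X₃) := by
      rw [ConcreteCategory.isIso_iff_bijective]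
      exact (Module.End.isUnit_iff _).1 (IsLocalizedModule.map_units
        (LocalizedModule.mkLinearMap (Submonoid.powers g) E) ⟨g, Submonoid.mem_powers g⟩)
    have h3 := LC.ExtCech.isZero_extCech_homology S.X₃ hunit (g :: fs) List.mem_cons_self q
    have h1 : IsZero ((DerCA.extCech S.X₁ (g :: fs)).homology q) := by
      refine isZero_cocone_of_src _ q (isZero_of_injective fs S.X₁ hT q hq) fun n => ?_
      refine ShortComplex.isZero_homology_of_isZero_X₂ _ (ModuleCat.isZero_iff_subsingleton.2 ?_)
      refine LocalizedModule.subsingleton_iff.2 fun x => ?_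
      obtain ⟨k, hk⟩ := tors_X (g := g) S.X₁ (fun z => by
        obtain ⟨k, hk⟩ := (hmemT z.1).1 z.2
        exact ⟨k, Subtype.ext hk⟩) fs n x
      exact ⟨g ^ k, ⟨k, rfl⟩, hk⟩
    exact ((cxSC_shortExact hS (g :: fs)).homology_exact₂ q).isZero_of_both_zeros
      (h1.eq_of_src _ _) (h3.eq_of_tgt _ _)

theorem compare (fs : List R) : ∀ (i : ℕ) (M : ModuleCat.{u} R),
    Nonempty ((DerCA.extCech M fs).homology (i : ℤ) ≃ₗ[R]
      (localCohomology (Ideal.span {x : R | x ∈ fs}) i).obj M) := by
  intro i
  induction i using Nat.strong_induction_on with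
  | _ i ih =>
    intro M
    let I : Ideal R := Ideal.span {x : R | x ∈ fs}
    let π : ∀ N : ModuleCat.{u} R, ↑((DerCA.extCech N fs).homology 0) →ₗ[R] DRing.torsionSub I N := fun N =>
      LinearMap.codRestrict _ (h0 N fs).hom fun x => (range_h0 N fs _).1 ⟨x, rfl⟩
    have hπ : ∀ N, Function.Bijective (π N) := fun N =>
      ⟨fun x y h => h0_injective N fs (congrArg Subtype.val h), fun m => by
        obtain ⟨x, hx⟩ := (range_h0 N fs m.1).2 m.2
        exact ⟨x, Subtype.ext hx⟩⟩
    rcases i with _ | i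
    · exact ⟨(LinearEquiv.ofBijective (π M) (hπ M)).trans (LC.H0Equiv I M).symm⟩
    · obtain ⟨⟨J, hJ, e, _⟩⟩ := EnoughInjectives.presentation M
      have hJ' : Module.Injective R J := Module.injective_module_of_injective_object R J
      let S : ShortComplex (ModuleCat.{u} R) := ShortComplex.mk e (cokernel.π e) (cokernel.condition e)
      have hS : S.ShortExact :=
        { exact := ShortComplex.exact_of_g_is_cokernel _ (cokernelIsCokernel e) }
      have hX : ∀ n, Subsingleton ((localCohomology I (n + 1)).obj S.X₂) :=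
        LC.subsingleton_of_hasDiv I S.X₂ (LC.hasDiv_of_injective J)
      have hC := cxSC_shortExact hS fs
      rcases i with _ | i
      · let d : ↑((DerCA.extCech S.X₃ fs).homology 0) →ₗ[R] ↑((DerCA.extCech S.X₁ fs).homology 1) :=
          (hC.δ 0 1 (by simp)).hom
        have hd : Function.Surjective d := fun z => (ShortComplex.moduleCat_exact_iff _).1
          (hC.homology_exact₁ 0 1 (by simp)) z
          ((ModuleCat.isZero_iff_subsingleton.1 (isZero_of_injective fs S.X₂ hJ' 1 one_pos)).elim _ _)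
        let c : ↑((DerCA.extCech S.X₃ fs).homology 0) →ₗ[R] (localCohomology I 1).obj S.X₁ :=
          (LC.coker₁ I hS).comp (π S.X₃)
        have hc : Function.Surjective c := (LC.coker₁_surjective I hS hX).comp (hπ S.X₃).2
        have hker : LinearMap.ker d = LinearMap.ker c := by
          ext z
          rw [LinearMap.mem_ker, LinearMap.mem_ker]
          show (hC.δ 0 1 (by simp)).hom z = 0 ↔ LC.coker₁ I hS (π S.X₃ z) = 0
          rw [LC.coker₁_eq_zero_iff]
          have hnat : ∀ w, h0 S.X₃ fs (HomologicalComplex.homologyMap (cxMap S.g fs) 0 w) =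
              S.g (h0 S.X₂ fs w) := fun w => ConcreteCategory.congr_hom (h0_natural S.g fs) w
          constructor
          · intro hz
            obtain ⟨w, hw⟩ := (ShortComplex.moduleCat_exact_iff _).1 (hC.homology_exact₃ 0 1 (by simp)) z hz
            refine ⟨h0 S.X₂ fs w, (range_h0 _ fs _).1 ⟨w, rfl⟩, ?_⟩
            exact (hnat w).symm.trans (congrArg _ hw)
          · rintro ⟨x, hx, hxy⟩
            obtain ⟨w, rfl⟩ := (range_h0 _ fs x).2 hx
            have hw : HomologicalComplex.homologyMap (cxMap S.g fs) 0 w = z :=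
              h0_injective _ fs ((hnat w).trans hxy)
            rw [← hw]
            exact ConcreteCategory.congr_hom (hC.comp_δ 0 1 (by simp)) w
        exact ⟨(d.quotKerEquivOfSurjective hd).symm.trans
          ((Submodule.quotEquivOfEq _ _ hker).trans (c.quotKerEquivOfSurjective hc))⟩
      · obtain ⟨f⟩ := ih (i + 1) (by omega) S.X₃
        have hij : (ComplexShape.up ℤ).Rel ((i + 1 : ℕ) : ℤ) ((i + 2 : ℕ) : ℤ) := by
          show ((i + 1 : ℕ) : ℤ) + 1 = ((i + 2 : ℕ) : ℤ)
          omega
        haveI : IsIso (hC.δ ((i + 1 : ℕ) : ℤ) ((i + 2 : ℕ) : ℤ) hij) :=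
          hC.isIso_δ _ _ _ (isZero_of_injective fs S.X₂ hJ' _ (by omega))
            (isZero_of_injective fs S.X₂ hJ' _ (by omega))
        exact ⟨(asIso (hC.δ ((i + 1 : ℕ) : ℤ) ((i + 2 : ℕ) : ℤ) hij)).toLinearEquiv.symm.trans
          (f.trans (LC.shiftEquiv I hS hX i))⟩

end Groth.Agent.H1CechLC
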