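import Groth.Agent.H1CechLC.Functor

/-! Degree zero of the extended Čech complex, naturally. -/

universe u

open CategoryTheory CategoryTheory.Limits CochainComplex

namespace Groth.Agent.H1CechLC

set_option backward.isDefEq.respectTransparency false
set_option backward.isDefEq.respectTransparency.types false

variable {R : Type u} [CommRing R]

/-- The projection of the degree zero term to the module. -/
noncomputable def p0 (M : ModuleCat.{u} R) : ∀ fs : List R, (DerCA.extCech M fs).X 0 ⟶ M
  | [] => (HomologicalComplex.singleObjXSelf (ComplexShape.up ℤ) 0 M).hom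
  | g :: fs => (mappingCone.fst (DerCA.locCxUnit (Submonoid.powers g) (DerCA.extCech M fs))).1.v (-1) 0 rfl ≫
      p0 M fs

theorem p0_natural {M N : ModuleCat.{u} R} (f : M ⟶ N) :
    ∀ fs : List R, (cxMap f fs).f 0 ≫ p0 N fs = p0 M fs ≫ f
  | [] => by
    show ((HomologicalComplex.single (ModuleCat.{u} R) (ComplexShape.up ℤ) 0).map f).f 0 ≫
        (HomologicalComplex.singleObjXSelf (ComplexShape.up ℤ) 0 N).hom =
      (HomologicalComplex.singleObjXSelf (ComplexShape.up ℤ) 0 M).hom ≫ f
    rw [HomologicalComplex.single_map_f_self, Category.assoc, Category.assoc, Iso.inv_hom_id, Category.comp_id]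
  | g :: fs => by
    have ih := p0_natural f fs
    show (mappingCone.map _ _ (cxMap f fs) ((DerCA.locCx (Submonoid.powers g)).map (cxMap f fs))
        (locCxUnit_naturality (Submonoid.powers g) (cxMap f fs))).f (-1) ≫ (mappingCone.fst _).1.v (-1) 0 rfl ≫ p0 N fs =
      ((mappingCone.fst _).1.v (-1) 0 rfl ≫ p0 M fs) ≫ f
    erw [← Category.assoc, map_f_fst]
    rw [Category.assoc, ih, Category.assoc]

theorem p0_spec (M : ModuleCat.{u} R) : ∀ fs : List R, Function.Bijective (p0 M fs) ∧
    ∀ x, ((DerCA.extCech M fs).d 0 1).hom x = 0 ↔ ∀ f ∈ fs, ∃ k : ℕ, f ^ k • p0 M fs x = 0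
  | [] => by
    refine ⟨ConcreteCategory.bijective_of_isIso
      (HomologicalComplex.singleObjXSelf (ComplexShape.up ℤ) 0 M).hom, fun x => ?_⟩
    have h : (DerCA.extCech M ([] : List R)).d 0 1 = 0 :=
      (HomologicalComplex.isZero_single_obj_X (ComplexShape.up ℤ) 0 M 1 (by omega)).eq_of_tgt _ _
    rw [h]
    exact ⟨fun _ f hf => absurd hf List.not_mem_nil, fun _ => rfl⟩
  | g :: fs => by
    obtain ⟨hb, he⟩ := p0_spec M fs
    let φ := DerCA.locCxUnit (Submonoid.powers g) (DerCA.extCech M fs)
    let C := CochainComplex.mappingCone φ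
    have hL : IsZero (((DerCA.locCx (Submonoid.powers g)).obj (DerCA.extCech M fs)).X (-1)) :=
      Functor.map_isZero (DerCA.locFunctor (Submonoid.powers g))
        (LC.ExtCech.isZero_extCech_X_neg M fs (-1) (by omega))
    let p : C.X (-1) ⟶ (DerCA.extCech M fs).X 0 := (CochainComplex.mappingCone.fst φ).1.v (-1) 0 rfl
    let a : C.X (-1) ≅ (DerCA.extCech M fs).X 0 :=
      { hom := p
        inv := (CochainComplex.mappingCone.inl φ).v 0 (-1) rfl
        hom_inv_id := by
          have h := CochainComplex.mappingCone.id_X φ (-1) 0 rfl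
          rw [hL.eq_of_tgt ((CochainComplex.mappingCone.snd φ).v (-1) (-1) (add_zero _)) 0, zero_comp, add_zero] at h
          exact h
        inv_hom_id := CochainComplex.mappingCone.inl_v_fst_v φ 0 (-1) rfl }
    haveI : IsIso p := a.isIso_hom
    refine ⟨hb.comp (ConcreteCategory.bijective_of_isIso p), fun x => ?_⟩
    have hd : (DerCA.extCech M (g :: fs)).d 0 1 = -(C.d (-1) 0) := by
      show (-1 : ℤ).negOnePow • C.d (-1) 0 = _
      rw [Int.negOnePow_odd _ (odd_neg_one), Units.neg_smul, one_smul]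
    rw [hd]
    show -((C.d (-1) 0).hom x) = 0 ↔ ∀ f ∈ g :: fs, ∃ k : ℕ, f ^ k • p0 M fs (p x) = 0
    rw [neg_eq_zero]
    have h1 : C.d (-1) 0 ≫ (CochainComplex.mappingCone.fst φ).1.v 0 1 rfl = -(p ≫ (DerCA.extCech M fs).d 0 1) :=
      CochainComplex.mappingCone.d_fst_v φ (-1) 0 1 rfl rfl
    have h2 : C.d (-1) 0 ≫ (CochainComplex.mappingCone.snd φ).v 0 0 (add_zero _) = p ≫ φ.f 0 := by
      rw [CochainComplex.mappingCone.d_snd_v φ (-1) 0 rfl]
      rw [hL.eq_of_tgt ((CochainComplex.mappingCone.snd φ).v (-1) (-1) (add_zero _)) 0, zero_comp, add_zero]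
    have hiff : (C.d (-1) 0).hom x = 0 ↔ ((DerCA.extCech M fs).d 0 1).hom (p x) = 0 ∧ (φ.f 0).hom (p x) = 0 := by
      constructor
      · intro hx
        have e1 := ConcreteCategory.congr_hom h1 x
        have e2 := ConcreteCategory.congr_hom h2 x
        change _ = -_ at e1
        simp only [ConcreteCategory.comp_apply, hx, map_zero] at e1 e2
        exact ⟨neg_eq_zero.1 e1.symm, e2.symm⟩
      · rintro ⟨hx1, hx2⟩
        have e := ConcreteCategory.congr_hom (CochainComplex.mappingCone.id_X φ 0 1 rfl) ((C.d (-1) 0).hom x)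
        refine e.symm.trans ?_
        have e1 := ConcreteCategory.congr_hom h1 x
        have e2 := ConcreteCategory.congr_hom h2 x
        change _ = -_ at e1
        simp only [ConcreteCategory.comp_apply] at e1 e2
        simp only [ModuleCat.hom_add, ModuleCat.hom_comp, LinearMap.add_apply, LinearMap.comp_apply]
        erw [e1, e2, hx1, hx2]
        simp
    rw [hiff, he, List.forall_mem_cons, and_comm]
    refine and_congr_left fun _ => ?_
    show LocalizedModule.mkLinearMap (Submonoid.powers g) ((DerCA.extCech M fs).X 0) (p x) = 0 ↔ _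
    rw [IsLocalizedModule.eq_zero_iff (Submonoid.powers g)]
    constructor
    · rintro ⟨⟨_, k, rfl⟩, hk⟩
      exact ⟨k, (map_smul (p0 M fs).hom (g ^ k) (p x)).symm.trans ((congrArg (p0 M fs).hom hk).trans (map_zero _))⟩
    · rintro ⟨k, hk⟩
      exact ⟨⟨g ^ k, k, rfl⟩, hb.1 ((map_smul (p0 M fs).hom (g ^ k) (p x)).trans (hk.trans (map_zero _).symm))⟩

theorem homologyπ_bijective (M : ModuleCat.{u} R) (fs : List R) :
    IsIso ((DerCA.extCech M fs).homologyπ 0) := by
  have hd : (DerCA.extCech M fs).d (-1) 0 = 0 :=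
    (LC.ExtCech.isZero_extCech_X_neg _ fs (-1) (by omega)).eq_of_src _ _
  exact ((DerCA.extCech M fs).isoHomologyπ (-1) 0 (by simp) hd).isIso_hom

/-- The degree zero cohomology as a submodule of the module. -/
noncomputable def h0 (M : ModuleCat.{u} R) (fs : List R) : (DerCA.extCech M fs).homology 0 ⟶ M :=
  haveI := homologyπ_bijective M fs
  inv ((DerCA.extCech M fs).homologyπ 0) ≫ (DerCA.extCech M fs).iCycles 0 ≫ p0 M fs

theorem h0_natural {M N : ModuleCat.{u} R} (f : M ⟶ N) (fs : List R) :
    HomologicalComplex.homologyMap (cxMap f fs) 0 ≫ h0 N fs = h0 M fs ≫ f := by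
  haveI := homologyπ_bijective M fs
  haveI := homologyπ_bijective N fs
  rw [← cancel_epi ((DerCA.extCech M fs).homologyπ 0)]
  simp only [h0, HomologicalComplex.homologyπ_naturality_assoc, IsIso.hom_inv_id_assoc, Category.assoc]
  rw [HomologicalComplex.cyclesMap_i_assoc, p0_natural]

theorem h0_injective (M : ModuleCat.{u} R) (fs : List R) : Function.Injective (h0 M fs) := by
  haveI := homologyπ_bijective M fs
  intro x y h
  simp only [h0, ConcreteCategory.comp_apply] at h
  exact (ConcreteCategory.bijective_of_isIso (inv ((DerCA.extCech M fs).homologyπ 0))).1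
    ((ModuleCat.mono_iff_injective _).1 inferInstance ((p0_spec M fs).1.1 h))

theorem range_h0 (M : ModuleCat.{u} R) (fs : List R) (m : M) :
    (∃ x, h0 M fs x = m) ↔ m ∈ DRing.torsionSub (Ideal.span {x : R | x ∈ fs}) M := by
  haveI := homologyπ_bijective M fs
  rw [LC.ExtCech.mem_torsionSub_span_iff]
  constructor
  · rintro ⟨x, rfl⟩
    simp only [h0, ConcreteCategory.comp_apply]
    refine ((p0_spec M fs).2 _).1 ?_
    rw [← ConcreteCategory.comp_apply, HomologicalComplex.iCycles_d]
    rfl
  · intro hm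
    obtain ⟨x, rfl⟩ := (p0_spec M fs).1.2 m
    obtain ⟨z, hz⟩ := H9Misc.ExtCechTors.exists_cycle_of_d_eq_zero (DerCA.extCech M fs) 0 x
      (((p0_spec M fs).2 x).2 hm)
    refine ⟨(DerCA.extCech M fs).homologyπ 0 z, ?_⟩
    simp only [h0, ← ConcreteCategory.comp_apply, IsIso.hom_inv_id_assoc]
    rw [ConcreteCategory.comp_apply, hz]

end Groth.Agent.H1CechLC
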