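import Groth.Agent.H9Misc.ExtCechTors

/-! Functoriality and exactness of the extended Čech complex in the module. -/

universe u

open CategoryTheory CategoryTheory.Limits CochainComplex

namespace Groth.Agent.H1CechLC

set_option backward.isDefEq.respectTransparency false
set_option backward.isDefEq.respectTransparency.types false

variable {R : Type u} [CommRing R]

theorem locCxUnit_naturality (S : Submonoid R) {K L : DRing.Cx R} (a : K ⟶ L) :
    DerCA.locCxUnit S K ≫ (DerCA.locCx S).map a = a ≫ DerCA.locCxUnit S L := by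
  ext n : 1
  exact ((DerCA.locUnit S).naturality (a.f n)).symm

/-- The map of extended Čech complexes induced by a map of modules. -/
noncomputable def cxMap {M N : ModuleCat.{u} R} (f : M ⟶ N) :
    ∀ fs : List R, DerCA.extCech M fs ⟶ DerCA.extCech N fs
  | [] => (HomologicalComplex.single (ModuleCat.{u} R) (ComplexShape.up ℤ) 0).map f
  | g :: fs => (mappingCone.map (DerCA.locCxUnit (Submonoid.powers g) _) (DerCA.locCxUnit (Submonoid.powers g) _)
      (cxMap f fs) ((DerCA.locCx (Submonoid.powers g)).map (cxMap f fs))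
      (locCxUnit_naturality _ _))⟦(-1 : ℤ)⟧'

variable {K₁ L₁ K₂ L₂ K₃ L₃ : DRing.Cx R} {φ₁ : K₁ ⟶ L₁} {φ₂ : K₂ ⟶ L₂} {φ₃ : K₃ ⟶ L₃}

theorem map_f_fst (a : K₁ ⟶ K₂) (b : L₁ ⟶ L₂) (w : φ₁ ≫ b = a ≫ φ₂) (p q : ℤ) (h : p + 1 = q) :
    (mappingCone.map φ₁ φ₂ a b w).f p ≫ (mappingCone.fst φ₂).1.v p q h =
      (mappingCone.fst φ₁).1.v p q h ≫ a.f q := by
  refine mappingCone.ext_from φ₁ q p h ?_ ?_ <;> simp [mappingCone.map]

theorem map_f_snd (a : K₁ ⟶ K₂) (b : L₁ ⟶ L₂) (w : φ₁ ≫ b = a ≫ φ₂) (p : ℤ) :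
    (mappingCone.map φ₁ φ₂ a b w).f p ≫ (mappingCone.snd φ₂).v p p (add_zero p) =
      (mappingCone.snd φ₁).v p p (add_zero p) ≫ b.f p := by
  refine mappingCone.ext_from φ₁ (p + 1) p rfl ?_ ?_ <;> simp [mappingCone.map]

theorem map_comp_eq_zero (a : K₁ ⟶ K₂) (b : L₁ ⟶ L₂) (a' : K₂ ⟶ K₃) (b' : L₂ ⟶ L₃)
    (w : φ₁ ≫ b = a ≫ φ₂) (w' : φ₂ ≫ b' = a' ≫ φ₃) (ha : a ≫ a' = 0) (hb : b ≫ b' = 0) :
    mappingCone.map φ₁ φ₂ a b w ≫ mappingCone.map φ₂ φ₃ a' b' w' = 0 := by
  ext p : 1
  refine mappingCone.ext_to φ₃ p (p + 1) rfl ?_ ?_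
  · rw [HomologicalComplex.comp_f, Category.assoc, map_f_fst, ← Category.assoc, map_f_fst,
      Category.assoc, ← HomologicalComplex.comp_f, ha]
    simp
  · rw [HomologicalComplex.comp_f, Category.assoc, map_f_snd, ← Category.assoc, map_f_snd,
      Category.assoc, ← HomologicalComplex.comp_f, hb]
    simp

theorem cxMap_comp_eq_zero {M N P : ModuleCat.{u} R} (f : M ⟶ N) (g : N ⟶ P) (h : f ≫ g = 0) :
    ∀ fs : List R, cxMap f fs ≫ cxMap g fs = 0
  | [] => by
    show (HomologicalComplex.single _ _ 0).map f ≫ (HomologicalComplex.single _ _ 0).map g = 0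
    rw [← Functor.map_comp, h, Functor.map_zero]
  | c :: fs => by
    have ih := cxMap_comp_eq_zero f g h fs
    show (mappingCone.map _ _ (cxMap f fs) _ _)⟦(-1 : ℤ)⟧' ≫ (mappingCone.map _ _ (cxMap g fs) _ _)⟦(-1 : ℤ)⟧' = 0
    rw [← Functor.map_comp, map_comp_eq_zero _ _ _ _ _ _ ih (by rw [← Functor.map_comp, ih, Functor.map_zero]),
      Functor.map_zero]

theorem hom_ext_cone {K L : DRing.Cx R} (φ : K ⟶ L) (p : ℤ) {x y : (mappingCone φ).X p}
    (h1 : (mappingCone.fst φ).1.v p (p + 1) rfl x = (mappingCone.fst φ).1.v p (p + 1) rfl y)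
    (h2 : (mappingCone.snd φ).v p p (add_zero p) x = (mappingCone.snd φ).v p p (add_zero p) y) :
    x = y := by
  have e := fun z => ConcreteCategory.congr_hom (mappingCone.id_X φ p (p + 1) rfl) z
  have ex := e x
  have ey := e y
  simp only [ModuleCat.hom_add, ModuleCat.hom_id, ModuleCat.hom_comp, LinearMap.add_apply,
    LinearMap.comp_apply, LinearMap.id_apply] at ex ey
  refine ex.symm.trans (Eq.trans ?_ ey)
  exact congrArg₂ (· + ·) (congrArg _ h1) (congrArg _ h2)

theorem exists_cone_elt {K L : DRing.Cx R} (φ : K ⟶ L) (p : ℤ) (k : K.X (p + 1)) (l : L.X p) :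
    ∃ x : (mappingCone φ).X p, (mappingCone.fst φ).1.v p (p + 1) rfl x = k ∧
      (mappingCone.snd φ).v p p (add_zero p) x = l := by
  refine ⟨(mappingCone.inl φ).v (p + 1) p (by omega) k + (mappingCone.inr φ).f p l, ?_, ?_⟩
  · rw [map_add, ← ConcreteCategory.comp_apply, ← ConcreteCategory.comp_apply,
      mappingCone.inl_v_fst_v, mappingCone.inr_f_fst_v]
    simp
  · rw [map_add, ← ConcreteCategory.comp_apply, ← ConcreteCategory.comp_apply,
      mappingCone.inl_v_snd_v, mappingCone.inr_f_snd_v]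
    simp

theorem mk_shortExact {A B C : ModuleCat.{u} R} (f : A ⟶ B) (g : B ⟶ C) (w : f ≫ g = 0)
    (hf : Function.Injective f) (hg : Function.Surjective g) (he : ∀ b, g b = 0 → ∃ a, f a = b) :
    (ShortComplex.mk f g w).ShortExact :=
  { exact := (ShortComplex.moduleCat_exact_iff _).2 he
    mono_f := (ModuleCat.mono_iff_injective _).2 hf
    epi_g := (ModuleCat.epi_iff_surjective _).2 hg }

/-- The mapping cones of a short exact sequence of morphisms form a short exact sequence. -/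
theorem cone_shortExact (a : K₁ ⟶ K₂) (b : L₁ ⟶ L₂) (a' : K₂ ⟶ K₃) (b' : L₂ ⟶ L₃)
    (w : φ₁ ≫ b = a ≫ φ₂) (w' : φ₂ ≫ b' = a' ≫ φ₃) (ha : a ≫ a' = 0) (hb : b ≫ b' = 0)
    (hK : (ShortComplex.mk a a' ha).ShortExact) (hL : (ShortComplex.mk b b' hb).ShortExact) :
    (ShortComplex.mk _ _ (map_comp_eq_zero a b a' b' w w' ha hb)).ShortExact := by
  refine HomologicalComplex.shortExact_of_degreewise_shortExact _ fun p => ?_
  have hKp := hK.map_of_exact (HomologicalComplex.eval (ModuleCat.{u} R) (ComplexShape.up ℤ) (p + 1))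
  have hLp := hL.map_of_exact (HomologicalComplex.eval (ModuleCat.{u} R) (ComplexShape.up ℤ) p)
  have e1 := fun x => ConcreteCategory.congr_hom (map_f_fst a b w p (p + 1) rfl) x
  have e2 := fun x => ConcreteCategory.congr_hom (map_f_snd a b w p) x
  have e1' := fun x => ConcreteCategory.congr_hom (map_f_fst a' b' w' p (p + 1) rfl) x
  have e2' := fun x => ConcreteCategory.congr_hom (map_f_snd a' b' w' p) x
  simp only [ConcreteCategory.comp_apply] at e1 e2 e1' e2'
  refine mk_shortExact _ _ _ ?_ ?_ ?_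
  · intro x y hxy
    refine hom_ext_cone φ₁ p ((ModuleCat.mono_iff_injective (a.f (p + 1))).1 hKp.mono_f ?_)
      ((ModuleCat.mono_iff_injective (b.f p)).1 hLp.mono_f ?_)
    · rw [← e1, ← e1]; exact congrArg _ hxy
    · rw [← e2, ← e2]; exact congrArg _ hxy
  · intro z
    obtain ⟨k, hk⟩ := (ModuleCat.epi_iff_surjective (a'.f (p + 1))).1 hKp.epi_g
      ((mappingCone.fst φ₃).1.v p (p + 1) rfl z)
    obtain ⟨l, hl⟩ := (ModuleCat.epi_iff_surjective (b'.f p)).1 hLp.epi_g
      ((mappingCone.snd φ₃).v p p (add_zero p) z)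
    obtain ⟨x, rfl, rfl⟩ := exists_cone_elt φ₂ p k l
    exact ⟨x, hom_ext_cone φ₃ p ((e1' x).trans hk) ((e2' x).trans hl)⟩
  · intro y hy
    obtain ⟨k, hk⟩ := (ShortComplex.moduleCat_exact_iff _).1 hKp.exact
      ((mappingCone.fst φ₂).1.v p (p + 1) rfl y) ((e1' y).symm.trans (by erw [hy, map_zero]))
    obtain ⟨l, hl⟩ := (ShortComplex.moduleCat_exact_iff _).1 hLp.exact
      ((mappingCone.snd φ₂).v p p (add_zero p) y) ((e2' y).symm.trans (by erw [hy, map_zero]))
    obtain ⟨x, rfl, rfl⟩ := exists_cone_elt φ₁ p k l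
    exact ⟨x, hom_ext_cone φ₂ p ((e1 x).trans hk) ((e2 x).trans hl)⟩

theorem loc_shortExact (S : Submonoid R) {X : ShortComplex (DRing.Cx R)} (hX : X.ShortExact) :
    (X.map (DerCA.locCx S)).ShortExact := by
  refine HomologicalComplex.shortExact_of_degreewise_shortExact _ fun p => ?_
  have h := hX.map_of_exact (HomologicalComplex.eval (ModuleCat.{u} R) (ComplexShape.up ℤ) p)
  haveI h1 := localizedModuleIsLocalizedModule (M := X.X₁.X p) S
  haveI h2 := localizedModuleIsLocalizedModule (M := X.X₂.X p) S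
  haveI h3 := localizedModuleIsLocalizedModule (M := X.X₃.X p) S
  refine mk_shortExact _ _ _ ?_ ?_ ?_
  · exact IsLocalizedModule.map_injective S _ _ _ ((ModuleCat.mono_iff_injective (X.f.f p)).1 h.mono_f)
  · exact IsLocalizedModule.map_surjective S _ _ _ ((ModuleCat.epi_iff_surjective (X.g.f p)).1 h.epi_g)
  · intro y hy
    exact (IsLocalizedModule.map_exact S (LocalizedModule.mkLinearMap S (X.X₁.X p))
      (LocalizedModule.mkLinearMap S (X.X₂.X p)) (LocalizedModule.mkLinearMap S (X.X₃.X p))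
      (X.f.f p).hom (X.g.f p).hom
      ((ShortComplex.ShortExact.moduleCat_exact_iff_function_exact _).1 h.exact) y).1 hy

/-- The short complex of extended Čech complexes. -/
noncomputable def cxSC (S : ShortComplex (ModuleCat.{u} R)) (fs : List R) : ShortComplex (DRing.Cx R) :=
  ShortComplex.mk (cxMap S.f fs) (cxMap S.g fs) (cxMap_comp_eq_zero _ _ S.zero fs)

theorem cxSC_shortExact {S : ShortComplex (ModuleCat.{u} R)} (hS : S.ShortExact) :
    ∀ fs : List R, (cxSC S fs).ShortExact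
  | [] => hS.map_of_exact (HomologicalComplex.single (ModuleCat.{u} R) (ComplexShape.up ℤ) 0)
  | g :: fs => by
    have ih := cxSC_shortExact hS fs
    exact (cone_shortExact _ _ _ _ (locCxUnit_naturality (Submonoid.powers g) (cxMap S.f fs))
      (locCxUnit_naturality (Submonoid.powers g) (cxMap S.g fs)) _ _ ih
      (loc_shortExact (Submonoid.powers g) ih)).map_of_exact (shiftFunctor (DRing.Cx R) (-1 : ℤ))

end Groth.Agent.H1CechLC
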